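import Cfsg.Agent.Lib.LocalEven.OmegaOne
import Cfsg.Agent.Lib.Transfer.PGroup
import Mathlib.GroupTheory.Frattini
import Mathlib.GroupTheory.Sylow

/-!
A `p`-group, `p` odd, whose elements of order `p` are central and at most `p ^ r` in number
(with the identity), can be generated by `r` elements.
-/

set_option autoImplicit false
set_option linter.style.haveILetI false

namespace Cfsg.Agent.FGStruct.GenBound

universe u

variable {K : Type u} [Group K] [Finite K] {p : ℕ} [hp : Fact p.Prime]

/-- Equal `p`-th powers differ by an element of order dividing `p`. -/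
theorem inv_mul_pow_eq_one (hp2 : p ≠ 2) (hK : IsPGroup p K)
    (hc : ∀ x : K, x ^ p = 1 → x ∈ Subgroup.center K) {a b : K} (h : a ^ p = b ^ p) :
    (a⁻¹ * b) ^ p = 1 := by
  suffices key : ∀ n : ℕ, ∀ L : Subgroup K, Nat.card L ≤ n →
      ∀ a ∈ L, ∀ b ∈ L, a ^ p = b ^ p → (a⁻¹ * b) ^ p = 1 from
    key _ ⊤ le_rfl a (Subgroup.mem_top a) b (Subgroup.mem_top b) h
  intro n
  induction n with
  | zero => intro L hn; exact absurd hn (Nat.not_le.2 Nat.card_pos)
  | succ n ih =>
    intro L hn a ha b hb hab
    haveI : Group.IsNilpotent L := (hK.to_subgroup L).isNilpotent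
    rcases eq_top_or_exists_le_coatom (Subgroup.zpowers (⟨a, ha⟩ : L)) with htop | ⟨M, hM, haM⟩
    · have hbmem : (⟨b, hb⟩ : L) ∈ Subgroup.zpowers (⟨a, ha⟩ : L) := htop ▸ Subgroup.mem_top _
      obtain ⟨i, hi⟩ := hbmem
      have hb' : b = a ^ i := (congrArg Subtype.val hi).symm
      have hcomm : Commute a⁻¹ b := hb' ▸ (Commute.self_zpow a i).inv_left
      rw [hcomm.mul_pow, inv_pow, hab, inv_mul_cancel]
    · haveI := Subgroup.NormalizerCondition.normal_of_coatom M Group.normalizerCondition_of_isNilpotent hM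
      set S := M.map L.subtype with hS
      have hSL : S ≤ L := Subgroup.map_subtype_le _
      have hSne : S ≠ L := fun h => hM.1 (Subgroup.map_injective L.subtype_injective (by
        rw [← hS, h, ← MonoidHom.range_eq_map, Subgroup.range_subtype]))
      have hSn : Nat.card S ≤ n := by
        have : Nat.card S < Nat.card L := lt_of_le_of_ne (Subgroup.card_le_of_le hSL)
          fun h => hSne (Subgroup.eq_of_le_of_card_ge hSL h.ge)
        omega
      have haS : a ∈ S := ⟨⟨a, ha⟩, haM (Subgroup.mem_zpowers _), rfl⟩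
      have hconj : b * a * b⁻¹ ∈ S :=
        ⟨⟨b, hb⟩ * ⟨a, ha⟩ * ⟨b, hb⟩⁻¹, ‹M.Normal›.conj_mem _ (haM (Subgroup.mem_zpowers _)) _, rfl⟩
      have hpow : a ^ p = (b * a * b⁻¹) ^ p := by
        rw [conj_pow, hab]
        group
      set c := a⁻¹ * (b * a * b⁻¹) with hcdef
      have hcp : c ^ p = 1 := ih S hSn a haS _ hconj hpow
      have hcc := Subgroup.mem_center_iff.1 (hc c hcp)
      have hcc' : ∀ y : K, y * c⁻¹ = c⁻¹ * y := fun y =>
        Subgroup.mem_center_iff.1 (inv_mem (hc c hcp)) y
      have hba : b * a⁻¹ = a⁻¹ * b * c⁻¹ := by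
        rw [mul_assoc, hcc' b, ← mul_assoc, hcc' a⁻¹, hcdef]
        group
      rw [LEOmega.mul_pow_class_two hba (hcc' a⁻¹).symm (hcc' b).symm p]
      obtain ⟨k, hk⟩ := hp.out.dvd_choose_self two_ne_zero
        (lt_of_le_of_ne hp.out.two_le (Ne.symm hp2))
      rw [hk, _root_.pow_mul, inv_pow c p, hcp, inv_one, one_pow, mul_one, inv_pow, hab, inv_mul_cancel]

/-- The elements of order dividing `p` as a subgroup. -/
def omg (hc : ∀ x : K, x ^ p = 1 → x ∈ Subgroup.center K) : Subgroup K where
  carrier := {x | x ^ p = 1}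
  one_mem' := one_pow p
  mul_mem' := fun {a b} ha hb => by
    show (a * b) ^ p = 1
    have : Commute a b := (Subgroup.mem_center_iff.1 (hc a ha) b).symm
    rw [this.mul_pow, show a ^ p = 1 from ha, show b ^ p = 1 from hb, one_mul]
  inv_mem' := fun {a} ha => by
    show a⁻¹ ^ p = 1
    rw [inv_pow, show a ^ p = 1 from ha, inv_one]

/-- A group of this kind can be generated by `r` elements. -/
theorem exists_gens_of_central (hp2 : p ≠ 2) (hK : IsPGroup p K)
    (hc : ∀ x : K, x ^ p = 1 → x ∈ Subgroup.center K) {r : ℕ}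
    (hr : Nat.card {x : K // x ^ p = 1} ≤ p ^ r) :
    ∃ S : Finset K, S.card ≤ r ∧ Subgroup.closure (S : Set K) = ⊤ := by
  suffices key : ∀ n : ℕ, ∀ (G : Type u) [Group G] [Finite G], Nat.card G ≤ n → IsPGroup p G →
      (∀ x : G, x ^ p = 1 → x ∈ Subgroup.center G) → ∀ r : ℕ,
      Nat.card {x : G // x ^ p = 1} ≤ p ^ r →
      ∃ S : Finset G, S.card ≤ r ∧ Subgroup.closure (S : Set G) = ⊤ from
    key _ K le_rfl hK hc r hr
  clear hr r hc hK
  intro n
  induction n with
  | zero => intro G _ _ hn; exact absurd hn (Nat.not_le.2 Nat.card_pos)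
  | succ n ih =>
    intro G _ _ hn hG hc r hr
    classical
    rcases subsingleton_or_nontrivial G with hsub | hnt
    · exact ⟨∅, by simp, Subsingleton.elim _ _⟩
    haveI := hnt
    set W := omg hc with hW
    have hWc : W ≤ Subgroup.center G := fun x hx => hc x hx
    haveI : W.Normal := ⟨fun x hx g => by
      rw [Subgroup.mem_center_iff.1 (hWc hx) g, mul_inv_cancel_right]; exact hx⟩
    have hWcard : Nat.card W ≤ p ^ r := hr
    obtain ⟨z₀, hz₀⟩ : ∃ x : G, orderOf x = p := by
      obtain ⟨m, hm, hm'⟩ := hG.nontrivial_iff_card.1 hnt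
      exact exists_prime_orderOf_dvd_card' p (hm' ▸ dvd_pow_self p hm.ne')
    have hWne : W ≠ ⊥ := fun h => by
      have : z₀ ∈ W := show z₀ ^ p = 1 from hz₀ ▸ pow_orderOf_eq_one z₀
      rw [h, Subgroup.mem_bot] at this
      rw [this, orderOf_one] at hz₀
      exact hp.out.ne_one hz₀.symm
    by_cases hΦ : W ≤ frattini G
    · have hlt : Nat.card (G ⧸ W) ≤ n := by
        have h1 := W.card_eq_card_quotient_mul_card_subgroup
        have h2 : 1 < Nat.card W := Subgroup.one_lt_card_iff_ne_bot W |>.2 hWne
        have h3 : 0 < Nat.card (G ⧸ W) := Nat.card_pos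
        nlinarith
      have hc' : ∀ q : G ⧸ W, q ^ p = 1 → q ∈ Subgroup.center (G ⧸ W) := by
        intro q hq
        obtain ⟨x, rfl⟩ := QuotientGroup.mk_surjective q
        rw [Subgroup.mem_center_iff]
        intro g
        obtain ⟨g, rfl⟩ := QuotientGroup.mk_surjective g
        have hxp : x ^ p ∈ W := by
          rw [← QuotientGroup.eq_one_iff, QuotientGroup.mk_pow]; exact hq
        have h1 : (g * x * g⁻¹) ^ p = x ^ p := by
          rw [conj_pow, Subgroup.mem_center_iff.1 (hWc hxp) g, mul_inv_cancel_right]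
        have h2 : (x⁻¹ * (g * x * g⁻¹)) ∈ W := inv_mul_pow_eq_one hp2 hG hc h1.symm
        have h3 : ((g * x * g⁻¹ : G) : G ⧸ W) = (x : G ⧸ W) := (QuotientGroup.eq.2 h2).symm
        rw [QuotientGroup.mk_mul, QuotientGroup.mk_mul, QuotientGroup.mk_inv] at h3
        exact mul_inv_eq_iff_eq_mul.1 h3
      have hr' : Nat.card {q : G ⧸ W // q ^ p = 1} ≤ p ^ r := by
        refine le_trans ?_ hr
        have hout : ∀ q : G ⧸ W, q ^ p = 1 → (q.out ^ p) ^ p = 1 := fun q hq => by
          have : q.out ^ p ∈ W := by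
            rw [← QuotientGroup.eq_one_iff, QuotientGroup.mk_pow, QuotientGroup.out_eq']; exact hq
          exact this
        refine Nat.card_le_card_of_injective
          (fun q => (⟨q.1.out ^ p, hout q.1 q.2⟩ : {x : G // x ^ p = 1})) fun q q' h => ?_
        have h1 : q.1.out⁻¹ * q'.1.out ∈ W := inv_mul_pow_eq_one hp2 hG hc (congrArg Subtype.val h)
        have h2 := QuotientGroup.eq.2 h1
        rw [QuotientGroup.out_eq', QuotientGroup.out_eq'] at h2
        exact Subtype.ext h2
      obtain ⟨S, hS, hgen⟩ := ih (G ⧸ W) hlt (hG.to_quotient W) hc' r hr'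
      refine ⟨S.image Quotient.out, Finset.card_image_le.trans hS, frattini_nongenerating ?_⟩
      refine top_le_iff.1 (le_trans ?_ (sup_le_sup_left hΦ _))
      have h1 : (Subgroup.closure ((S.image Quotient.out : Finset G) : Set G)).map
          (QuotientGroup.mk' W) = ⊤ := by
        rw [eq_top_iff, ← hgen, Subgroup.closure_le]
        intro q hq
        exact ⟨q.out, Subgroup.subset_closure (Finset.mem_coe.2 (Finset.mem_image_of_mem _ hq)),
          QuotientGroup.out_eq' q⟩
      have h2 := Subgroup.comap_map_eq (QuotientGroup.mk' W)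
        (Subgroup.closure ((S.image Quotient.out : Finset G) : Set G))
      rw [h1, Subgroup.comap_top, QuotientGroup.ker_mk'] at h2
      exact h2.le
    · obtain ⟨z, hzW, hzΦ⟩ := SetLike.not_le_iff_exists.1 hΦ
      obtain ⟨M, hM, hzM⟩ : ∃ M : Subgroup G, IsCoatom M ∧ z ∉ M := by
        by_contra h
        push Not at h
        exact hzΦ (by simpa [frattini, Order.radical, Subgroup.mem_iInf] using h)
      obtain ⟨s, hs⟩ := IsPGroup.iff_card.1 (hG.to_subgroup W)
      obtain ⟨t, ht⟩ := IsPGroup.iff_card.1 (hG.to_subgroup (W ⊓ M))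
      have hts : t < s := by
        have h1 : Nat.card (W ⊓ M : Subgroup G) < Nat.card W :=
          lt_of_le_of_ne (Subgroup.card_le_of_le inf_le_left) fun h =>
            hzM ((Subgroup.eq_of_le_of_card_ge inf_le_left h.ge).ge hzW).2
        rw [hs, ht] at h1
        exact (Nat.pow_lt_pow_iff_right hp.out.one_lt).1 h1
      have hsr : s ≤ r := (Nat.pow_le_pow_iff_right hp.out.one_lt).1 (hs ▸ hWcard)
      have hMn : Nat.card M ≤ n := by
        have : Nat.card M < Nat.card G := lt_of_le_of_ne
          ((Subgroup.card_le_of_le le_top).trans Subgroup.card_top.le)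
          fun h => hM.1 (Subgroup.eq_top_of_card_eq M h)
        omega
      have hcM : ∀ x : M, x ^ p = 1 → x ∈ Subgroup.center M := fun x hx => by
        rw [Subgroup.mem_center_iff]
        exact fun g => Subtype.ext (Subgroup.mem_center_iff.1
          (hc x (by simpa using congrArg Subtype.val hx)) g)
      have hrM : Nat.card {x : M // x ^ p = 1} ≤ p ^ (r - 1) := by
        refine le_trans ?_ (Nat.pow_le_pow_right hp.out.pos (show t ≤ r - 1 by omega))
        rw [← ht]
        exact Nat.card_le_card_of_injective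
          (fun x => (⟨x.1.1, (by simpa using congrArg Subtype.val x.2 : (x.1.1 : G) ^ p = 1), x.1.2⟩ :
            (W ⊓ M : Subgroup G)))
          fun x y h => Subtype.ext (Subtype.ext (congrArg Subtype.val h :))
      obtain ⟨S, hS, hgen⟩ := ih M hMn (hG.to_subgroup M) hcM (r - 1) hrM
      refine ⟨insert z (S.image Subtype.val), ?_, ?_⟩
      · refine (Finset.card_insert_le _ _).trans ?_
        have := (Finset.card_image_le (s := S) (f := Subtype.val))
        omega
      · have hle : M ≤ Subgroup.closure ((insert z (S.image Subtype.val) : Finset G) : Set G) := by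
          refine le_trans (M.range_subtype.symm.le.trans ?_) le_rfl
          rw [MonoidHom.range_eq_map, ← hgen, MonoidHom.map_closure]
          refine Subgroup.closure_mono ?_
          rintro _ ⟨x, hx, rfl⟩
          simp only [Finset.coe_insert, Finset.coe_image, Set.mem_insert_iff]
          exact Or.inr ⟨x, hx, rfl⟩
        refine hM.2 _ (lt_of_le_of_ne hle fun h => hzM (h ▸ Subgroup.subset_closure ?_))
        simp

end Cfsg.Agent.FGStruct.GenBound
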