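import Cfsg.Agent.Lib.FiniteGroup.FrattiniAut
import Mathlib.Combinatorics.SimpleGraph.Extremal.Turan
import Mathlib.LinearAlgebra.Matrix.Block

/-!
A finite group of upper unitriangular `n × n` matrices over `ZMod p` needs at most `n ^ 2 / 4`
generators: the leading positions of its elements which do not come from commutators contain
no triangle.
-/

set_option autoImplicit false
set_option linter.style.haveILetI false

open scoped commutatorElement

namespace Cfsg.Agent.FGStruct.GenBound

variable {n : ℕ} {p : ℕ} [hp : Fact p.Prime] {H : Type*} [Group H] [Finite H]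
  (φ : H →* Matrix (Fin n) (Fin n) (ZMod p))

/-- Upper unitriangular representation. -/
structure IsUT : Prop where
  low : ∀ h i j, j < i → φ h i j = 0
  diag : ∀ h i, φ h i i = 1
  inj : Function.Injective φ

/-- The weight of a position: first the distance from the diagonal, then the row. -/
def wt (q : Fin n × Fin n) : ℕ := ((q.2 : ℕ) - q.1) * n + q.1

omit hp in
theorem wt_lt {i j : Fin n} : wt (i, j) < n * n + n := by
  have hi := i.2
  have hj := j.2
  simp only [wt]
  nlinarith [Nat.sub_le (j : ℕ) i]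

omit hp in
theorem wt_inj {i j i' j' : Fin n} (h : i < j) (h' : i' < j') (he : wt (i, j) = wt (i', j')) :
    i = i' ∧ j = j' := by
  simp only [wt] at he
  have h1 : (i : ℕ) = i' := by
    have h0 := congrArg (· % n) he
    simpa [Nat.add_mod, Nat.mod_eq_of_lt i.2, Nat.mod_eq_of_lt i'.2] using h0
  have h2 : (j : ℕ) - i = (j' : ℕ) - i' := by
    have : 0 < n := lt_of_le_of_lt (Nat.zero_le _) i.2
    rw [h1] at he ⊢
    exact Nat.eq_of_mul_eq_mul_right this (Nat.add_right_cancel he)
  rw [Fin.lt_def] at h h'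
  exact ⟨Fin.ext h1, Fin.ext (by omega)⟩

omit hp in
/-- A shorter position has smaller weight. -/
theorem wt_lt_of_sub_lt {i j i' j' : Fin n} (h : (j : ℕ) - i < (j' : ℕ) - i') :
    wt (i, j) < wt (i', j') := by
  simp only [wt]
  have := i.2
  calc ((j : ℕ) - i) * n + i < ((j : ℕ) - i) * n + n := by omega
    _ = ((j : ℕ) - i + 1) * n := by ring
    _ ≤ ((j' : ℕ) - i') * n := Nat.mul_le_mul_right n h
    _ ≤ _ := Nat.le_add_right _ _

omit hp in
theorem wt_le_iff {i j i' j' : Fin n} (h : wt (i, j) ≤ wt (i', j')) :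
    (j : ℕ) - i ≤ (j' : ℕ) - i' ∧ ((j : ℕ) - i = (j' : ℕ) - i' → (i : ℕ) ≤ i') := by
  refine ⟨?_, fun he => ?_⟩
  · by_contra hc
    exact absurd (wt_lt_of_sub_lt (i := i') (j := j') (i' := i) (j' := j) (by omega)) (not_lt.2 h)
  · simp only [wt, he] at h
    omega

/-- Strictly upper triangular and zero below weight `t`. -/
def Van (t : ℕ) (N : Matrix (Fin n) (Fin n) (ZMod p)) : Prop :=
  ∀ i j, j ≤ i ∨ wt (i, j) < t → N i j = 0

variable {φ}

theorem van_zero (hφ : IsUT φ) (h : H) : Van 0 (φ h - 1) := by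
  intro i j hij
  rcases hij with h1 | h1
  · rcases lt_or_eq_of_le h1 with h2 | rfl
    · simp [hφ.low h i j h2, Matrix.one_apply_ne (ne_of_gt h2)]
    · simp [hφ.diag]
  · omega

theorem mul_apply_of_van (hφ : IsUT φ) {t : ℕ} {N : Matrix (Fin n) (Fin n) (ZMod p)}
    (hN : Van t N) (g : H) {i j : Fin n} (h : j ≤ i ∨ wt (i, j) ≤ t) : (N * φ g) i j = N i j := by
  rw [Matrix.mul_apply, Finset.sum_eq_single j]
  · rw [hφ.diag, mul_one]
  · intro l _ hlj
    rcases lt_or_gt_of_ne hlj with h1 | h1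
    · rcases h with h2 | h2
      · rw [hN i l (Or.inl ((le_of_lt h1).trans h2)), zero_mul]
      · rcases le_or_gt l i with h3 | h3
        · rw [hN i l (Or.inl h3), zero_mul]
        · rw [hN i l (Or.inr (lt_of_lt_of_le (wt_lt_of_sub_lt (by rw [Fin.lt_def] at h1 h3; omega)) h2)),
            zero_mul]
    · rw [hφ.low g l j h1, mul_zero]
  · simp

theorem mul_sub_one (g h : H) : φ (g * h) - 1 = (φ g - 1) * φ h + (φ h - 1) := by
  rw [map_mul, sub_mul, one_mul]
  abel

theorem inv_sub_one (g : H) : (φ g⁻¹ - 1) = -((φ g - 1) * φ g⁻¹) := by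
  rw [sub_mul, one_mul, ← map_mul, mul_inv_cancel, map_one]
  abel

/-- The elements of `K` vanishing below weight `t`. -/
def layer (hφ : IsUT φ) (K : Subgroup H) (t : ℕ) : Subgroup H where
  carrier := {h | h ∈ K ∧ Van t (φ h - 1)}
  one_mem' := ⟨one_mem K, fun i j _ => by simp⟩
  mul_mem' := fun {g h} hg hh => ⟨mul_mem hg.1 hh.1, fun i j hij => by
    rw [mul_sub_one, Matrix.add_apply, mul_apply_of_van hφ hg.2 h (hij.imp_right le_of_lt),
      hg.2 i j hij, hh.2 i j hij, add_zero]⟩
  inv_mem' := fun {g} hg => ⟨inv_mem hg.1, fun i j hij => by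
    rw [inv_sub_one, Matrix.neg_apply, mul_apply_of_van hφ hg.2 g⁻¹ (hij.imp_right le_of_lt),
      hg.2 i j hij, neg_zero]⟩

theorem layer_zero (hφ : IsUT φ) (K : Subgroup H) : layer hφ K 0 = K :=
  le_antisymm (fun _ h => h.1) fun h hh => ⟨hh, van_zero hφ h⟩

theorem layer_top (hφ : IsUT φ) (K : Subgroup H) {t : ℕ} (ht : n * n + n ≤ t) :
    layer hφ K t = ⊥ := by
  rw [eq_bot_iff]
  intro h hh
  refine hφ.inj ?_
  rw [map_one, ← sub_eq_zero]
  ext i j
  exact hh.2 i j (Or.inr (lt_of_lt_of_le wt_lt ht))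

/-- The leading positions occurring in `K`. -/
noncomputable def leads (hφ : IsUT φ) (K : Subgroup H) : Finset (Fin n × Fin n) := by
  classical exact Finset.univ.filter fun q =>
    q.1 < q.2 ∧ ∃ h ∈ layer hφ K (wt q), φ h q.1 q.2 ≠ 0

theorem mem_leads (hφ : IsUT φ) (K : Subgroup H) {q : Fin n × Fin n} :
    q ∈ leads hφ K ↔ q.1 < q.2 ∧ ∃ h ∈ layer hφ K (wt q), φ h q.1 q.2 ≠ 0 := by
  classical simp [leads]

theorem leads_mono (hφ : IsUT φ) {K L : Subgroup H} (h : K ≤ L) : leads hφ K ⊆ leads hφ L := by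
  intro q hq
  rw [mem_leads] at hq ⊢
  obtain ⟨h1, x, hx, h2⟩ := hq
  exact ⟨h1, x, ⟨h hx.1, hx.2⟩, h2⟩

/-- The order of a subgroup from its leading positions. -/
theorem card_layer (hφ : IsUT φ) (K : Subgroup H) :
    ∀ d t, n * n + n ≤ t + d →
      Nat.card (layer hφ K t) = p ^ ((leads hφ K).filter fun q => t ≤ wt q).card := by
  intro d
  induction d with
  | zero =>
    intro t ht
    rw [Nat.add_zero] at ht
    rw [layer_top hφ K ht, Subgroup.card_bot, Finset.filter_eq_empty_iff.2, Finset.card_empty, pow_zero]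
    intro q _ hq
    have := wt_lt (i := q.1) (j := q.2)
    simp only [Prod.mk.eta] at this
    omega
  | succ d ih =>
    intro t ht
    have hsucc := ih (t + 1) (by omega)
    have hsame : (∀ q : Fin n × Fin n, q ∈ leads hφ K → wt q ≠ t) →
        (∀ h ∈ layer hφ K t, ∀ i j : Fin n, i < j → wt (i, j) = t → φ h i j = 0) →
        Nat.card (layer hφ K t) = p ^ ((leads hφ K).filter fun q => t ≤ wt q).card := by
      intro h1 h2
      have e1 : layer hφ K t = layer hφ K (t + 1) := by
        refine le_antisymm (fun h hh => ⟨hh.1, fun i j hij => ?_⟩) fun h hh =>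
          ⟨hh.1, fun i j hij => hh.2 i j (hij.imp_right fun h => h.trans (Nat.lt_succ_self t))⟩
        rcases le_or_gt j i with h3 | h3
        · exact hh.2 i j (Or.inl h3)
        rcases hij with h4 | h4
        · exact absurd h4 (not_le.2 h3)
        rcases Nat.lt_succ_iff_lt_or_eq.1 h4 with h5 | h5
        · exact hh.2 i j (Or.inr h5)
        · simp [Matrix.one_apply_ne h3.ne, h2 h hh i j h3 h5]
      have e2 : ((leads hφ K).filter fun q => t ≤ wt q) =
          (leads hφ K).filter fun q => t + 1 ≤ wt q :=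
        Finset.filter_congr fun q hq => ⟨fun h => by have := h1 q hq; omega, fun h => by omega⟩
      rw [e1, e2, hsucc]
    by_cases hq : ∃ i j : Fin n, i < j ∧ wt (i, j) = t ∧ ∃ h ∈ layer hφ K t, φ h i j ≠ 0
    swap
    · push Not at hq
      refine hsame (fun q hq' he => ?_) fun h hh i j hij he => hq i j hij he h hh
      obtain ⟨h1, h, hh, h2⟩ := (mem_leads hφ K).1 hq'
      exact h2 (hq q.1 q.2 h1 he h (he ▸ hh))
    obtain ⟨i, j, hij, hwt, h₀, hh₀, hne₀⟩ := hq
    let ψ : layer hφ K t →* Multiplicative (ZMod p) :=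
      MonoidHom.mk' (fun h => Multiplicative.ofAdd ((φ (h : H) - 1) i j)) fun g h => by
        rw [← ofAdd_add, Subgroup.coe_mul, mul_sub_one, Matrix.add_apply,
          mul_apply_of_van hφ g.2.2 (h : H) (Or.inr hwt.le)]
    have hker : ψ.ker = (layer hφ K (t + 1)).subgroupOf (layer hφ K t) := by
      ext h
      rw [MonoidHom.mem_ker, Subgroup.mem_subgroupOf]
      constructor
      · intro h1
        refine ⟨h.2.1, fun a b hab => ?_⟩
        rcases le_or_gt b a with h3 | h3
        · exact h.2.2 a b (Or.inl h3)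
        rcases hab with h4 | h4
        · exact absurd h4 (not_le.2 h3)
        rcases Nat.lt_succ_iff_lt_or_eq.1 h4 with h5 | h5
        · exact h.2.2 a b (Or.inr h5)
        · obtain ⟨rfl, rfl⟩ := wt_inj h3 hij (h5.trans hwt.symm)
          exact Multiplicative.ofAdd.injective h1
      · intro h1
        show Multiplicative.ofAdd _ = Multiplicative.ofAdd 0
        exact congrArg _ (h1.2 i j (Or.inr (by omega)))
    have hrange : ψ.range = ⊤ := by
      haveI : Fact (Nat.card (Multiplicative (ZMod p))).Prime := ⟨by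
        rw [Nat.card_congr Multiplicative.toAdd, Nat.card_zmod]; exact hp.out⟩
      refine ψ.range.eq_bot_or_eq_top_of_prime_card.resolve_left fun h => hne₀ ?_
      have h1 : ψ ⟨h₀, hh₀⟩ ∈ ψ.range := ⟨_, rfl⟩
      rw [h, Subgroup.mem_bot] at h1
      have h2 : (φ h₀ - 1) i j = 0 := Multiplicative.ofAdd.injective h1
      simpa [Matrix.one_apply_ne hij.ne] using h2
    have hle : layer hφ K (t + 1) ≤ layer hφ K t := fun h hh =>
      ⟨hh.1, fun a b hab => hh.2 a b (hab.imp_right fun h => h.trans (Nat.lt_succ_self t))⟩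
    have h1 := ψ.ker.index_mul_card
    rw [Subgroup.index_ker, hrange, Subgroup.card_top, Nat.card_congr Multiplicative.toAdd,
      Nat.card_zmod, hker, Nat.card_congr (Subgroup.subgroupOfEquivOfLe hle).toEquiv,
      hsucc] at h1
    have hmem : (i, j) ∈ leads hφ K :=
      (mem_leads hφ K).2 ⟨hij, h₀, (show wt (i, j) = t from hwt).symm ▸ hh₀, hne₀⟩
    have hins : ((leads hφ K).filter fun q => t ≤ wt q) =
        insert (i, j) ((leads hφ K).filter fun q => t + 1 ≤ wt q) := by
      ext q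
      simp only [Finset.mem_filter, Finset.mem_insert]
      constructor
      · rintro ⟨hq1, hq2⟩
        rcases hq2.lt_or_eq with h | h
        · exact Or.inr ⟨hq1, h⟩
        · obtain ⟨a, b⟩ := q
          obtain ⟨rfl, rfl⟩ := wt_inj ((mem_leads hφ K).1 hq1).1 hij (h.symm.trans hwt.symm)
          exact Or.inl rfl
      · rintro (rfl | ⟨hq1, hq2⟩)
        · exact ⟨hmem, hwt.ge⟩
        · exact ⟨hq1, by omega⟩
    rw [← h1, hins, Finset.card_insert_of_notMem (by simp [hwt]), pow_succ']

theorem card_eq_pow_leads (hφ : IsUT φ) (K : Subgroup H) :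
    Nat.card K = p ^ (leads hφ K).card := by
  have h := card_layer hφ K (n * n + n) 0 (by omega)
  rw [layer_zero, Finset.filter_true_of_mem (fun q _ => Nat.zero_le _)] at h
  exact h

theorem prod_apply_eq {i j k : Fin n} (hij : i < j) (hjk : j < k)
    {u v : Matrix (Fin n) (Fin n) (ZMod p)} (hu : Van (wt (i, j)) u) (hv : Van (wt (j, k)) v)
    {x z : Fin n} (hxz : z ≤ x ∨ wt (x, z) ≤ wt (i, k)) :
    (u * v) x z = if x = i ∧ z = k then u i j * v j k else 0 := by
  have key : ∀ y, u x y * v y z ≠ 0 → x = i ∧ y = j ∧ z = k := by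
    intro y hy
    have hu' : x < y ∧ wt (i, j) ≤ wt (x, y) := by
      by_contra h
      rw [not_and_or, not_lt, not_le] at h
      exact hy (by rw [hu x y h, zero_mul])
    have hv' : y < z ∧ wt (j, k) ≤ wt (y, z) := by
      by_contra h
      rw [not_and_or, not_lt, not_le] at h
      exact hy (by rw [hv y z h, mul_zero])
    rcases hxz with h0 | h0
    · exact absurd h0 (not_le.2 (hu'.1.trans hv'.1))
    obtain ⟨a1, a2⟩ := wt_le_iff hu'.2
    obtain ⟨b1, b2⟩ := wt_le_iff hv'.2
    obtain ⟨c1, c2⟩ := wt_le_iff h0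
    have d1 := hu'.1
    have d2 := hv'.1
    rw [Fin.lt_def] at d1 d2 hij hjk
    have e1 := a2 (by omega)
    have e2 := b2 (by omega)
    have e3 := c2 (by omega)
    exact ⟨Fin.ext (by omega), Fin.ext (by omega), Fin.ext (by omega)⟩
  rw [Matrix.mul_apply]
  split_ifs with h
  · obtain ⟨rfl, rfl⟩ := h
    exact Finset.sum_eq_single j (fun y _ hy => by_contra fun h => hy (key y h).2.1) (by simp)
  · exact Finset.sum_eq_zero fun y _ => by_contra fun h' => h ⟨(key y h').1, (key y h').2.2⟩

theorem prod_apply_swap {i j k : Fin n} (hij : i < j) (hjk : j < k)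
    {u v : Matrix (Fin n) (Fin n) (ZMod p)} (hu : Van (wt (i, j)) u) (hv : Van (wt (j, k)) v)
    {x z : Fin n} (hxz : z ≤ x ∨ wt (x, z) ≤ wt (i, k)) : (v * u) x z = 0 := by
  rw [Matrix.mul_apply]
  refine Finset.sum_eq_zero fun y _ => by_contra fun hy => ?_
  have hv' : x < y ∧ wt (j, k) ≤ wt (x, y) := by
    by_contra h
    rw [not_and_or, not_lt, not_le] at h
    exact hy (by rw [hv x y h, zero_mul])
  have hu' : y < z ∧ wt (i, j) ≤ wt (y, z) := by
    by_contra h
    rw [not_and_or, not_lt, not_le] at h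
    exact hy (by rw [hu y z h, mul_zero])
  rcases hxz with h0 | h0
  · exact absurd h0 (not_le.2 (hv'.1.trans hu'.1))
  obtain ⟨a1, a2⟩ := wt_le_iff hu'.2
  obtain ⟨b1, b2⟩ := wt_le_iff hv'.2
  obtain ⟨c1, c2⟩ := wt_le_iff h0
  have d1 := hu'.1
  have d2 := hv'.1
  rw [Fin.lt_def] at d1 d2 hij hjk
  have e2 := b2 (by omega)
  have e3 := c2 (by omega)
  omega

/-- Decomposable leading positions are leading positions of the Frattini subgroup. -/
theorem mem_leads_frattini (hφ : IsUT φ) (hH : IsPGroup p H) {i j k : Fin n}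
    (hg : (i, j) ∈ leads hφ ⊤) (hh : (j, k) ∈ leads hφ ⊤) : (i, k) ∈ leads hφ (frattini H) := by
  obtain ⟨hij, g, hgl, hga⟩ := (mem_leads hφ ⊤).1 hg
  obtain ⟨hjk, h, hhl, hha⟩ := (mem_leads hφ ⊤).1 hh
  haveI := hH.isNilpotent
  set c := ⁅g, h⁆ with hc
  have hcΦ : c ∈ frattini H := SolvStruct.commutator_le_frattini H
    (Subgroup.commutator_mem_commutator (Subgroup.mem_top g) (Subgroup.mem_top h))
  have hmul : (φ c - 1) * φ (h * g) = (φ g - 1) * (φ h - 1) - (φ h - 1) * (φ g - 1) := by
    have e : c * (h * g) = g * h := by rw [hc, commutatorElement_def]; group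
    rw [sub_mul, one_mul, ← map_mul, e, map_mul, map_mul]
    noncomm_ring
  have hD : ∀ x z, (z ≤ x ∨ wt (x, z) ≤ wt (i, k)) →
      ((φ c - 1) * φ (h * g)) x z =
        if x = i ∧ z = k then (φ g - 1) i j * (φ h - 1) j k else 0 := by
    intro x z hxz
    rw [hmul, Matrix.sub_apply, prod_apply_eq hij hjk hgl.2 hhl.2 hxz,
      prod_apply_swap hij hjk hgl.2 hhl.2 hxz, sub_zero]
  have hvan : ∀ t, t ≤ wt (i, k) → Van t (φ c - 1) := by
    intro t
    induction t with
    | zero => intro _; exact van_zero hφ c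
    | succ t ih =>
      intro ht x z hxz
      rcases le_or_gt z x with h1 | h1
      · exact van_zero hφ c x z (Or.inl h1)
      rcases hxz with h2 | h2
      · exact absurd h2 (not_le.2 h1)
      rw [← mul_apply_of_van hφ (ih (by omega)) (h * g) (Or.inr (by omega)),
        hD x z (Or.inr (by omega)), if_neg]
      rintro ⟨rfl, rfl⟩
      omega
  refine (mem_leads hφ _).2 ⟨hij.trans hjk, c, ⟨hcΦ, hvan _ le_rfl⟩, ?_⟩
  have h1 := hD i k (Or.inr le_rfl)
  rw [mul_apply_of_van hφ (hvan _ le_rfl) (h * g) (Or.inr le_rfl), if_pos ⟨rfl, rfl⟩] at h1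
  have hik : i ≠ k := (hij.trans hjk).ne
  simp only [Matrix.sub_apply, Matrix.one_apply_ne hik, Matrix.one_apply_ne hij.ne,
    Matrix.one_apply_ne hjk.ne, sub_zero] at h1
  show φ c i k ≠ 0
  rw [h1]
  exact mul_ne_zero hga hha

omit hp in
/-- Mantel, for a set of ordered pairs. -/
theorem card_le_of_triangle_free (T : Finset (Fin n × Fin n)) (hlt : ∀ q ∈ T, q.1 < q.2)
    (htri : ∀ i j k, (i, j) ∈ T → (j, k) ∈ T → (i, k) ∉ T) : T.card ≤ n * n / 4 := by
  classical
  let G : SimpleGraph (Fin n) := SimpleGraph.fromRel fun a b => (a, b) ∈ T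
  have hadj : ∀ {a b : Fin n}, G.Adj a b → a < b → (a, b) ∈ T := by
    intro a b h hab
    rcases (SimpleGraph.fromRel_adj _ a b).1 h |>.2 with h1 | h1
    · exact h1
    · exact absurd (hlt _ h1) (not_lt.2 hab.le)
  have hcf : G.CliqueFree (2 + 1) := by
    intro s hs
    obtain ⟨a, b, c, hab, hac, hbc, -⟩ := SimpleGraph.is3Clique_iff.1 hs
    wlog h1 : a < b generalizing a b c with H
    · exact H b a c hab.symm hbc hac (lt_of_le_of_ne (not_lt.1 h1) hab.ne.symm)
    rcases lt_or_gt_of_ne hbc.ne with h2 | h2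
    · exact htri a b c (hadj hab h1) (hadj hbc h2) (hadj hac (h1.trans h2))
    rcases lt_or_gt_of_ne hac.ne with h3 | h3
    · exact htri a c b (hadj hac h3) (hadj hbc.symm h2) (hadj hab h1)
    · exact htri c a b (hadj hac.symm h3) (hadj hab h1) (hadj hbc.symm (h3.trans h1))
  have h1 : T.card ≤ G.edgeFinset.card := by
    refine Finset.card_le_card_of_injOn (fun q => s(q.1, q.2)) (fun q hq => ?_) fun q hq q' hq' he => ?_
    · rw [Finset.mem_coe, SimpleGraph.mem_edgeFinset, SimpleGraph.mem_edgeSet]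
      exact (SimpleGraph.fromRel_adj _ _ _).2 ⟨(hlt q hq).ne, Or.inl hq⟩
    · rcases Sym2.eq_iff.1 he with ⟨h1, h2⟩ | ⟨h1, h2⟩
      · exact Prod.ext h1 h2
      · exact absurd ((h1 ▸ hlt q hq : q'.2 < q.2)) (not_lt.2 (h2 ▸ (hlt q' hq').le : q.2 ≤ q'.2))
  have h2 := hcf.card_edgeFinset_le
  simp only [Fintype.card_fin, Nat.add_one_sub_one, mul_one] at h2
  refine (h1.trans h2).trans ?_
  rw [Nat.choose_eq_zero_of_lt (Nat.mod_lt n (by norm_num)), add_zero, show 2 * 2 = 4 from rfl, sq]
  exact Nat.div_le_div_right (Nat.sub_le _ _)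

/-- A group of upper unitriangular matrices needs at most `n ^ 2 / 4` generators. -/
theorem exists_gens_of_unitriangular (hφ : IsUT φ) (hH : IsPGroup p H) :
    ∃ S : Finset H, S.card ≤ n * n / 4 ∧ Subgroup.closure (S : Set H) = ⊤ := by
  classical
  set A := leads hφ (⊤ : Subgroup H) with hA
  set B := leads hφ (frattini H) with hB
  have hBA : B ⊆ A := leads_mono hφ le_top
  have hcard := Subgroup.card_mul_index (frattini H)
  rw [card_eq_pow_leads hφ, ← Subgroup.card_top (G := H), card_eq_pow_leads hφ, ← hA, ← hB] at hcard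
  have hidx : (frattini H).index = p ^ (A \ B).card := by
    have e : A.card = B.card + (A \ B).card := by
      rw [Finset.card_sdiff_of_subset hBA]
      have := Finset.card_le_card hBA
      omega
    rw [e, pow_add] at hcard
    exact Nat.eq_of_mul_eq_mul_left (pow_pos hp.out.pos _) hcard
  have hT : (A \ B).card ≤ n * n / 4 := by
    refine card_le_of_triangle_free _
      (fun q hq => ((mem_leads hφ ⊤).1 (Finset.mem_sdiff.1 hq).1).1) fun i j k hi hj hk => ?_
    exact (Finset.mem_sdiff.1 hk).2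
      (mem_leads_frattini hφ hH (Finset.mem_sdiff.1 hi).1 (Finset.mem_sdiff.1 hj).1)
  obtain ⟨m, hm⟩ := IsPGroup.iff_card.1 hH
  obtain ⟨⟨t, ht⟩, -⟩ := FrattiniAut.exists_generators hm hidx
  refine ⟨Finset.univ.image t, le_trans (Finset.card_image_le.trans (by simp)) hT, ?_⟩
  rw [Finset.coe_image, Finset.coe_univ, Set.image_univ]
  exact FrattiniAut.closure_eq_top ht

end Cfsg.Agent.FGStruct.GenBound
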