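import Cfsg.Agent.Lib.FGStruct.GenBound.Central
import Cfsg.Agent.Lib.FGStruct.GenBound.Unitri
import Cfsg.Agent.Lib.OddOrder.OmegaCentral

/-!
Every subgroup of an odd `p`-group with a maximal normal elementary abelian subgroup of order
`p ^ r` needs at most `r + r ^ 2 / 4` generators.
-/

set_option autoImplicit false
set_option linter.style.haveILetI false

open scoped commutatorElement

namespace Cfsg.Agent.FGStruct.GenBound

universe u

variable {P : Type u} [Group P] [Finite P] {p : ℕ} [hp : Fact p.Prime]

theorem finrank_eq {W : Type*} [AddCommGroup W] [Finite W] [Module (ZMod p) W] {r : ℕ}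
    (hcard : Nat.card W = p ^ r) : Module.finrank (ZMod p) W = r := by
  have h := Module.natCard_eq_pow_finrank (K := ZMod p) (V := W)
  rw [Nat.card_zmod, hcard] at h
  exact (Nat.pow_right_injective hp.out.two_le h).symm

theorem le_of_gen {E : Subgroup P} (hE : Cfsg.IsElementaryAbelian p E) {r : ℕ}
    (hr : Nat.card E = p ^ r) {s : ℕ} (e : Fin s → P)
    (hgen : Subgroup.closure (Set.range e) = E) :
    r ≤ s := by
  classical
  haveI := hE.1
  letI : CommGroup E := { E.toGroup with mul_comm := fun a b => mul_comm' a b }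
  have hpx : ∀ x : Additive E, p • x = 0 := fun x =>
    Additive.toMul.injective (Subtype.ext (hE.2 _ (Additive.toMul x : E).2))
  haveI : Module (ZMod p) (Additive E) := AddCommGroup.zmodModule hpx
  haveI : Finite (Additive E) := inferInstanceAs (Finite E)
  haveI : Module.Finite (ZMod p) (Additive E) := Module.Finite.of_finite
  have hfr : Module.finrank (ZMod p) (Additive E) = r := by
    exact finrank_eq ((Nat.card_congr (Additive.toMul : Additive E ≃ E)).trans hr)
  have he : ∀ i, e i ∈ E := fun i => hgen.le (Subgroup.subset_closure ⟨i, rfl⟩)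
  let f : Fin s → Additive E := fun i => Additive.ofMul (⟨e i, he i⟩ : E)
  have hspan : Submodule.span (ZMod p) (Set.range f) = ⊤ := by
    rw [eq_top_iff]
    rintro x -
    suffices h : ∀ y, y ∈ Subgroup.closure (Set.range e) → ∀ hy : y ∈ E,
        Additive.ofMul (⟨y, hy⟩ : E) ∈ Submodule.span (ZMod p) (Set.range f) from
      h _ (hgen.ge (Additive.toMul x : E).2) (Additive.toMul x : E).2
    intro y hy
    induction hy using Subgroup.closure_induction with
    | mem y hy => obtain ⟨i, rfl⟩ := hy; exact fun _ => Submodule.subset_span ⟨i, rfl⟩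
    | one => intro _; exact Submodule.zero_mem _
    | mul a b ha hb iha ihb =>
      intro _
      exact Submodule.add_mem _ (iha (hgen.le ha)) (ihb (hgen.le hb))
    | inv a ha iha => intro _; exact Submodule.neg_mem _ (iha (hgen.le ha))
  have h := finrank_range_le_card (R := ZMod p) f
  rw [Set.finrank, hspan, finrank_top, hfr, Fintype.card_fin] at h
  exact h

/-- Generators of a normal elementary abelian subgroup, each central modulo the ones before it. -/
theorem exists_flag (hP : IsPGroup p P) (E : Subgroup P) [E.Normal] {r : ℕ}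
    (hr : Nat.card E = p ^ r) :
    ∃ (s : ℕ) (e : Fin s → P), s ≤ r ∧ Subgroup.closure (Set.range e) = E ∧
      ∀ j g, g * e j * g⁻¹ * (e j)⁻¹ ∈ Subgroup.closure (e '' {i | i < j}) := by
  suffices key : ∀ d s, r < s + d → ∀ e : Fin s → P, (∀ i, e i ∈ E) →
      (Subgroup.closure (Set.range e)).Normal →
      (∀ j g, g * e j * g⁻¹ * (e j)⁻¹ ∈ Subgroup.closure (e '' {i | i < j})) →
      p ^ s ≤ Nat.card (Subgroup.closure (Set.range e)) →
      ∃ (s : ℕ) (e : Fin s → P), s ≤ r ∧ Subgroup.closure (Set.range e) = E ∧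
        ∀ j g, g * e j * g⁻¹ * (e j)⁻¹ ∈ Subgroup.closure (e '' {i | i < j}) by
    refine key (r + 1) 0 (by omega) (fun i => i.elim0) (fun i => i.elim0) ?_ (fun i => i.elim0) ?_
    · rw [Set.range_eq_empty, Subgroup.closure_empty]; infer_instance
    · rw [pow_zero]; exact Nat.card_pos
  intro d
  induction d with
  | zero =>
    intro s hs e he _ _ hcard
    have h1 : Subgroup.closure (Set.range e) ≤ E := by
      rw [Subgroup.closure_le]; rintro _ ⟨i, rfl⟩; exact he i
    have h2 := hcard.trans ((Subgroup.card_le_of_le h1).trans hr.le)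
    have := (Nat.pow_le_pow_iff_right hp.out.one_lt).1 h2
    omega
  | succ d ih =>
    intro s hs e he hn hflag hcard
    have h1 : Subgroup.closure (Set.range e) ≤ E := by
      rw [Subgroup.closure_le]; rintro _ ⟨i, rfl⟩; exact he i
    have hsr : s ≤ r := (Nat.pow_le_pow_iff_right hp.out.one_lt).1
      (hcard.trans ((Subgroup.card_le_of_le h1).trans hr.le))
    by_cases hEle : E ≤ Subgroup.closure (Set.range e)
    · exact ⟨s, e, hsr, le_antisymm h1 hEle, hflag⟩
    haveI := hP.isNilpotent
    haveI := hn
    obtain ⟨x, hxE, hxB, hx⟩ := OddOrder.Nilp.exists_mem_commutator_le hEle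
    have hrange : Subgroup.closure (Set.range (Fin.snoc e x : Fin (s + 1) → P)) =
        Subgroup.closure (Set.range e) ⊔ Subgroup.zpowers x := by
      rw [Fin.range_snoc, ← Set.union_singleton, Subgroup.closure_union, Subgroup.zpowers_eq_closure]
    refine ih (s + 1) (by omega) (Fin.snoc e x) ?_ ?_ ?_ ?_
    · intro i
      induction i using Fin.lastCases with
      | last => rw [Fin.snoc_last]; exact hxE
      | cast i => rw [Fin.snoc_castSucc]; exact he i
    · rw [hrange]
      exact OddOrder.OmegaCen.mem_normal_sup_zpowers hx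
    · intro j g
      induction j using Fin.lastCases with
      | last =>
        rw [Fin.snoc_last]
        refine (Subgroup.closure_mono ?_ : Subgroup.closure (Set.range e) ≤ _) ?_
        · rintro _ ⟨i, rfl⟩
          exact ⟨i.castSucc, Fin.castSucc_lt_last i, Fin.snoc_castSucc _ _ _⟩
        · have h2 : g * x * g⁻¹ * x⁻¹ = ⁅x, g⁆⁻¹ := by rw [commutatorElement_def]; group
          rw [h2]
          exact inv_mem (hx g)
      | cast j =>
        rw [Fin.snoc_castSucc]
        refine (Subgroup.closure_mono ?_ : Subgroup.closure (e '' {i | i < j}) ≤ _) (hflag j g)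
        rintro _ ⟨i, hi, rfl⟩
        exact ⟨i.castSucc, Fin.castSucc_lt_castSucc_iff.2 hi, Fin.snoc_castSucc _ _ _⟩
    · obtain ⟨a, ha⟩ := IsPGroup.iff_card.1 (hP.to_subgroup (Subgroup.closure (Set.range e)))
      obtain ⟨b, hb⟩ := IsPGroup.iff_card.1
        (hP.to_subgroup (Subgroup.closure (Set.range (Fin.snoc e x : Fin (s + 1) → P))))
      have hlt : Subgroup.closure (Set.range e) <
          Subgroup.closure (Set.range (Fin.snoc e x : Fin (s + 1) → P)) := by
        rw [hrange]
        exact lt_of_le_of_ne le_sup_left fun h =>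
          hxB (h.ge (Subgroup.mem_sup_right (Subgroup.mem_zpowers x)))
      have h3 : p ^ a < p ^ b := ha ▸ hb ▸ Set.ncard_lt_ncard (SetLike.coe_ssubset_coe.2 hlt) (Set.toFinite _)
      have h4 : s ≤ a := (Nat.pow_le_pow_iff_right hp.out.one_lt).1 (ha ▸ hcard)
      rw [hb]
      exact Nat.pow_le_pow_right hp.out.pos (by
        have := (Nat.pow_lt_pow_iff_right hp.out.one_lt).1 h3
        omega)

/-- Conjugation on a normal elementary abelian subgroup in upper unitriangular matrices. -/
theorem exists_unitriangular (hP : IsPGroup p P) (E : Subgroup P) [E.Normal]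
    (hE : Cfsg.IsElementaryAbelian p E) {r : ℕ} (hr : Nat.card E = p ^ r) :
    ∃ φ : P →* Matrix (Fin r) (Fin r) (ZMod p),
      (∀ g i j, j < i → φ g i j = 0) ∧ (∀ g i, φ g i i = 1) ∧
      (∀ g, φ g = 1 ↔ g ∈ Subgroup.centralizer (E : Set P)) := by
  classical
  haveI := hE.1
  obtain ⟨s, e, hsr, hgen, hflag⟩ := exists_flag hP E hr
  obtain rfl : s = r := le_antisymm hsr (le_of_gen hE hr e hgen)
  letI : CommGroup E := { E.toGroup with mul_comm := fun a b => mul_comm' a b }
  have hpx : ∀ x : Additive E, p • x = 0 := fun x =>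
    Additive.toMul.injective (Subtype.ext (hE.2 _ (Additive.toMul x : E).2))
  haveI : Module (ZMod p) (Additive E) := AddCommGroup.zmodModule hpx
  haveI : Finite (Additive E) := inferInstanceAs (Finite E)
  haveI : Module.Finite (ZMod p) (Additive E) := Module.Finite.of_finite
  have he : ∀ i, e i ∈ E := fun i => hgen.le (Subgroup.subset_closure ⟨i, rfl⟩)
  let f : Fin s → Additive E := fun i => Additive.ofMul (⟨e i, he i⟩ : E)
  have hfr : Fintype.card (Fin s) = Module.finrank (ZMod p) (Additive E) := by
    rw [Fintype.card_fin]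
    exact (finrank_eq ((Nat.card_congr (Additive.toMul : Additive E ≃ E)).trans hr)).symm
  have hspan : ⊤ ≤ Submodule.span (ZMod p) (Set.range f) := by
    rintro x -
    suffices h : ∀ y, y ∈ Subgroup.closure (Set.range e) → ∀ hy : y ∈ E,
        Additive.ofMul (⟨y, hy⟩ : E) ∈ Submodule.span (ZMod p) (Set.range f) from
      h _ (hgen.ge (Additive.toMul x : E).2) (Additive.toMul x : E).2
    intro y hy
    induction hy using Subgroup.closure_induction with
    | mem y hy => obtain ⟨i, rfl⟩ := hy; exact fun _ => Submodule.subset_span ⟨i, rfl⟩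
    | one => intro _; exact Submodule.zero_mem _
    | mul a b ha hb iha ihb =>
      intro _
      exact Submodule.add_mem _ (iha (hgen.le ha)) (ihb (hgen.le hb))
    | inv a ha iha => intro _; exact Submodule.neg_mem _ (iha (hgen.le ha))
  let b := basisOfTopLeSpanOfCardEqFinrank f hspan hfr
  have hb : ∀ i, b i = f i := fun i => congrFun (coe_basisOfTopLeSpanOfCardEqFinrank f hspan hfr) i
  let ρ : P →* Module.End (ZMod p) (Additive E) :=
    { toFun := fun g =>
        ((MulAut.conjNormal g : MulAut E).toMonoidHom.toAdditive).toZModLinearMap p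
      map_one' := LinearMap.ext fun x => by
        show Additive.ofMul ((MulAut.conjNormal (1 : P) : MulAut E) (Additive.toMul x)) = x
        rw [map_one]; rfl
      map_mul' := fun g h => LinearMap.ext fun x => by
        show Additive.ofMul ((MulAut.conjNormal (g * h) : MulAut E) (Additive.toMul x)) = _
        rw [map_mul]; rfl }
  let φ : P →* Matrix (Fin s) (Fin s) (ZMod p) :=
    (LinearMap.toMatrixAlgEquiv b).toMulEquiv.toMonoidHom.comp ρ
  have hrepr : ∀ (j : Fin s), ∀ y, y ∈ Subgroup.closure (e '' {i | i < j}) → ∀ hy : y ∈ E,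
      ∀ i, j ≤ i → b.repr (Additive.ofMul (⟨y, hy⟩ : E)) i = 0 := by
    intro j y hy
    induction hy using Subgroup.closure_induction with
    | mem y hy =>
      obtain ⟨l, hl, rfl⟩ := hy
      intro _ i hi
      rw [show Additive.ofMul (⟨e l, _⟩ : E) = b l from (hb l).symm, b.repr_self, Finsupp.single_apply,
        if_neg]
      exact fun h => absurd hi (not_le.2 (h ▸ hl))
    | one =>
      intro _ i _
      show b.repr (0 : Additive E) i = 0
      simp
    | mul a c ha hc iha ihc =>
      intro hy i hi
      have ha' : a ∈ E := (Subgroup.closure_le E).2 (by rintro _ ⟨l, -, rfl⟩; exact he l) ha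
      have hc' : c ∈ E := (Subgroup.closure_le E).2 (by rintro _ ⟨l, -, rfl⟩; exact he l) hc
      rw [show Additive.ofMul (⟨a * c, hy⟩ : E) =
        Additive.ofMul (⟨a, ha'⟩ : E) + Additive.ofMul (⟨c, hc'⟩ : E) from rfl, map_add,
        Finsupp.add_apply, iha ha' i hi, ihc hc' i hi, add_zero]
    | inv a ha iha =>
      intro hy i hi
      have ha' : a ∈ E := (Subgroup.closure_le E).2 (by rintro _ ⟨l, -, rfl⟩; exact he l) ha
      rw [show Additive.ofMul (⟨a⁻¹, hy⟩ : E) = -Additive.ofMul (⟨a, ha'⟩ : E) from rfl, map_neg,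
        Finsupp.neg_apply, iha ha' i hi, neg_zero]
  have hentry : ∀ g i j, j ≤ i → φ g i j = if i = j then 1 else 0 := by
    intro g i j hij
    have hd : g * e j * g⁻¹ * (e j)⁻¹ ∈ E :=
      E.mul_mem (‹E.Normal›.conj_mem _ (he j) g) (E.inv_mem (he j))
    have hsplit : ρ g (b j) = Additive.ofMul (⟨_, hd⟩ : E) + b j := by
      rw [hb]
      apply Additive.toMul.injective
      apply Subtype.ext
      show g * e j * g⁻¹ = g * e j * g⁻¹ * (e j)⁻¹ * e j
      group
    show LinearMap.toMatrixAlgEquiv b (ρ g) i j = _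
    rw [LinearMap.toMatrixAlgEquiv_apply, hsplit, map_add, Finsupp.add_apply,
      hrepr j _ (hflag j g) hd i hij, zero_add, b.repr_self, Finsupp.single_apply]
    simp only [eq_comm]
  refine ⟨φ, fun g i j h => by rw [hentry g i j h.le, if_neg (ne_of_gt h)],
    fun g i => by rw [hentry g i i le_rfl, if_pos rfl], fun g => ?_⟩
  constructor
  · intro h
    have h1 : ρ g = 1 := (LinearMap.toMatrixAlgEquiv b).injective (by
      show φ g = _
      rw [h, map_one])
    rw [Subgroup.mem_centralizer_iff]
    intro x hx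
    have h2 := congrArg (fun f : Module.End (ZMod p) (Additive E) => f (Additive.ofMul (⟨x, hx⟩ : E))) h1
    have h3 : g * x * g⁻¹ = x := congrArg Subtype.val (Additive.ofMul.injective h2)
    exact (mul_inv_eq_iff_eq_mul.1 h3).symm
  · intro h
    have h1 : ρ g = 1 := by
      refine LinearMap.ext fun x => Additive.toMul.injective (Subtype.ext ?_)
      show g * ((Additive.toMul x : E) : P) * g⁻¹ = _
      rw [← Subgroup.mem_centralizer_iff.1 h _ (Additive.toMul x : E).2, mul_inv_cancel_right]
      rfl
    show LinearMap.toMatrixAlgEquiv b (ρ g) = 1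
    rw [h1, map_one]

/-- The bound for the subgroups. -/
theorem exists_gens_subgroup (hp2 : p ≠ 2) (hP : IsPGroup p P) (E : Subgroup P) [E.Normal]
    (hE : Cfsg.IsElementaryAbelian p E)
    (hmax : ∀ B : Subgroup P, B.Normal → Cfsg.IsElementaryAbelian p B → E ≤ B → B = E)
    {r : ℕ} (hr : Nat.card E = p ^ r) (H : Subgroup P) :
    ∃ S : Finset P, S.card ≤ r + r * r / 4 ∧ Subgroup.closure (S : Set P) = H := by
  classical
  obtain ⟨φ, hlow, hdiag, hker⟩ := exists_unitriangular hP E hE hr
  set ψ := φ.comp H.subtype with hψ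
  let φ' : H ⧸ ψ.ker →* Matrix (Fin r) (Fin r) (ZMod p) := QuotientGroup.lift ψ.ker ψ le_rfl
  have hUT : IsUT φ' := by
    refine ⟨fun h => QuotientGroup.induction_on h fun x i j hij => hlow _ i j hij,
      fun h => QuotientGroup.induction_on h fun x i => hdiag _ i, ?_⟩
    rw [injective_iff_map_eq_one]
    intro q
    refine QuotientGroup.induction_on q fun x hx => ?_
    exact (QuotientGroup.eq_one_iff x).2 (MonoidHom.mem_ker.2 hx)
  obtain ⟨T, hT, hTgen⟩ := exists_gens_of_unitriangular hUT ((hP.to_subgroup H).to_quotient ψ.ker)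
  have hNC : ∀ x : ψ.ker, ((x : H) : P) ∈ Subgroup.centralizer (E : Set P) := fun x =>
    (hker _).1 (MonoidHom.mem_ker.1 x.2)
  have hNE : ∀ x : ψ.ker, x ^ p = 1 → ((x : H) : P) ∈ E := fun x hx =>
    OddOrder.OmegaCen.mem_of_centralizes hp2 hP E hE hmax (hNC x)
      (by simpa using congrArg (fun y : ψ.ker => ((y : H) : P)) hx)
  obtain ⟨U, hU, hUgen⟩ := exists_gens_of_central hp2 ((hP.to_subgroup H).to_subgroup ψ.ker)
    (fun x hx => Subgroup.mem_center_iff.2 fun y => Subtype.ext (Subtype.ext
      (Subgroup.mem_centralizer_iff.1 (hNC y) _ (hNE x hx)).symm))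
    (r := r) (by
      rw [← hr]
      exact Nat.card_le_card_of_injective (fun x => (⟨_, hNE x.1 x.2⟩ : E))
        fun x y h => Subtype.ext (Subtype.ext (Subtype.ext (congrArg Subtype.val h :))))
  set S : Finset H := U.image Subtype.val ∪ T.image Quotient.out with hS
  have hSgen : Subgroup.closure (S : Set H) = ⊤ := by
    have hN : ψ.ker ≤ Subgroup.closure (S : Set H) := by
      refine le_trans (ψ.ker.range_subtype.symm.le.trans ?_) le_rfl
      rw [MonoidHom.range_eq_map, ← hUgen, MonoidHom.map_closure]
      refine Subgroup.closure_mono ?_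
      rintro _ ⟨x, hx, rfl⟩
      exact Finset.mem_coe.2 (Finset.mem_union_left _ (Finset.mem_image_of_mem _ hx))
    have h1 : (Subgroup.closure (S : Set H)).map (QuotientGroup.mk' ψ.ker) = ⊤ := by
      rw [eq_top_iff, ← hTgen, Subgroup.closure_le]
      intro q hq
      exact ⟨q.out, Subgroup.subset_closure (Finset.mem_coe.2 (Finset.mem_union_right _
        (Finset.mem_image_of_mem _ hq))), QuotientGroup.out_eq' q⟩
    have h2 := Subgroup.comap_map_eq (QuotientGroup.mk' ψ.ker) (Subgroup.closure (S : Set H))
    rw [h1, Subgroup.comap_top, QuotientGroup.ker_mk', sup_eq_left.2 hN] at h2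
    exact h2.symm
  refine ⟨S.image Subtype.val, ?_, ?_⟩
  · refine Finset.card_image_le.trans ((Finset.card_union_le _ _).trans ?_)
    exact Nat.add_le_add (Finset.card_image_le.trans hU) (Finset.card_image_le.trans hT)
  · have h := congrArg (Subgroup.map H.subtype) hSgen
    rw [MonoidHom.map_closure, ← MonoidHom.range_eq_map, Subgroup.range_subtype] at h
    rw [Finset.coe_image]
    exact h

end Cfsg.Agent.FGStruct.GenBound
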